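/-
Projective planes of order four: arcs and hyperovals.

Main results (namespace `Cfsg.Agent.PlaneFour`): `Plane`, `Plane.ext_three`, `Plane.ext_four`,
`Plane.existsUnique_hyperoval`, `Plane.card_four_arcs`, `Plane.card_hyperovals`.
-/
import Cfsg.Agent.Lib.SteinerCount.Basic

set_option autoImplicit false
open Cfsg

namespace Cfsg.Agent.PlaneFour

open Finset SteinerCount

variable {α : Type*} [Fintype α] [DecidableEq α]

/-- A projective plane of order four. -/
structure Plane (L : Set (Finset α)) : Prop where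
  card : Fintype.card α = 21
  steiner : Cfsg.IsSteinerSystem 2 5 L

/-- No line meets `S` in more than two points. -/
def IsArc (L : Set (Finset α)) (S : Finset α) : Prop := ∀ l ∈ L, (l ∩ S).card ≤ 2

open Classical in
/-- The line through two points. -/
noncomputable def ln (L : Set (Finset α)) (a b : α) : Finset α :=
  if h : ∃ l, l ∈ L ∧ a ∈ l ∧ b ∈ l then h.choose else ∅

open Classical in
/-- The points extending an arc. -/
noncomputable def ext (L : Set (Finset α)) (S : Finset α) : Finset α :=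
  univ.filter fun x => x ∉ S ∧ ∀ a ∈ S, ∀ b ∈ S, a ≠ b → x ∉ ln L a b

open Classical in
/-- The arcs with a given number of points. -/
noncomputable def arcs (L : Set (Finset α)) (k : ℕ) : Finset (Finset α) :=
  (univ.powersetCard k).filter (IsArc L)

namespace Plane

variable {L : Set (Finset α)} (P : Plane L)
include P

theorem ln_spec {a b : α} (h : a ≠ b) : ln L a b ∈ L ∧ a ∈ ln L a b ∧ b ∈ ln L a b := by
  obtain ⟨l, ⟨hl, hs⟩, -⟩ := P.steiner.2 {a, b} (card_pair h)
  have he : ∃ l, l ∈ L ∧ a ∈ l ∧ b ∈ l := ⟨l, hl, hs (by simp), hs (by simp)⟩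
  rw [ln, dif_pos he]
  exact he.choose_spec

theorem ln_mem {a b : α} (h : a ≠ b) : ln L a b ∈ L := (P.ln_spec h).1

theorem left_mem {a b : α} (h : a ≠ b) : a ∈ ln L a b := (P.ln_spec h).2.1

theorem right_mem {a b : α} (h : a ≠ b) : b ∈ ln L a b := (P.ln_spec h).2.2

theorem line_unique {l m : Finset α} (hl : l ∈ L) (hm : m ∈ L) {a b : α} (h : a ≠ b) (hal : a ∈ l) (hbl : b ∈ l)
    (ham : a ∈ m) (hbm : b ∈ m) : l = m := by
  obtain ⟨n, -, hn⟩ := P.steiner.2 {a, b} (card_pair h)
  rw [hn l ⟨hl, by simp [insert_subset_iff, hal, hbl]⟩, hn m ⟨hm, by simp [insert_subset_iff, ham, hbm]⟩]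

theorem eq_ln {l : Finset α} (hl : l ∈ L) {a b : α} (h : a ≠ b) (ha : a ∈ l) (hb : b ∈ l) : l = ln L a b :=
  P.line_unique hl (P.ln_mem h) h ha hb (P.left_mem h) (P.right_mem h)

theorem ln_comm {a b : α} (h : a ≠ b) : ln L a b = ln L b a :=
  P.eq_ln (P.ln_mem h) h.symm (P.right_mem h) (P.left_mem h)

theorem card_line {l : Finset α} (hl : l ∈ L) : l.card = 5 := P.steiner.1 l hl

theorem card_through (x : α) : ((blocks L).filter (fun l => x ∈ l)).card = 5 := by
  have h := card_containing_mul P.steiner (T := {x}) (by simp)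
  simp only [card_singleton, singleton_subset_iff, P.card] at h
  norm_num [Nat.choose] at h
  omega

theorem inter_nonempty {l m : Finset α} (hl : l ∈ L) (hm : m ∈ L) : (l ∩ m).Nonempty := by
  by_contra h
  rw [not_nonempty_iff_eq_empty, ← disjoint_iff_inter_eq_empty] at h
  obtain ⟨x, hx⟩ := card_pos.1 (show 0 < l.card by rw [P.card_line hl]; norm_num)
  have hne : ∀ y ∈ m, x ≠ y := fun y hy e => disjoint_left.1 h hx (e ▸ hy)
  have hsub : m.image (fun y => ln L x y) ⊆ ((blocks L).filter (fun n => x ∈ n)).erase l := by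
    intro n hn
    obtain ⟨y, hy, rfl⟩ := mem_image.1 hn
    refine mem_erase.2 ⟨fun e => disjoint_left.1 h (e ▸ P.right_mem (hne y hy)) hy, mem_filter.2
      ⟨mem_blocks.2 (P.ln_mem (hne y hy)), P.left_mem (hne y hy)⟩⟩
  have hinj : Set.InjOn (fun y => ln L x y) (m : Set α) := by
    intro y hy y' hy' e
    by_contra hyy
    have h1 := P.line_unique (P.ln_mem (hne y hy)) hm hyy (P.right_mem (hne y hy))
      (by rw [show ln L x y = ln L x y' from e]; exact P.right_mem (hne y' hy')) hy hy'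
    exact disjoint_left.1 h hx (h1 ▸ P.left_mem (hne y hy))
  have := card_le_card hsub
  rw [card_image_of_injOn hinj, P.card_line hm, card_erase_of_mem (mem_filter.2 ⟨mem_blocks.2 hl, hx⟩),
    P.card_through] at this
  omega

theorem card_inter {l m : Finset α} (hl : l ∈ L) (hm : m ∈ L) (h : l ≠ m) : (l ∩ m).card = 1 := by
  refine le_antisymm (card_le_one.2 fun a ha b hb => ?_) (card_pos.2 (P.inter_nonempty hl hm))
  by_contra hab
  rw [mem_inter] at ha hb
  exact h (P.line_unique hl hm hab ha.1 hb.1 ha.2 hb.2)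

/-- Two lines through `a` meet only there. -/
theorem inter_eq {l m : Finset α} (hl : l ∈ L) (hm : m ∈ L) (h : l ≠ m) {a : α} (hal : a ∈ l) (ham : a ∈ m) :
    l ∩ m = {a} :=
  (eq_of_subset_of_card_le (singleton_subset_iff.2 (mem_inter.2 ⟨hal, ham⟩))
    (by rw [P.card_inter hl hm h, card_singleton])).symm

theorem not_collinear {S : Finset α} (hS : IsArc L S) {a b c : α} (ha : a ∈ S) (hb : b ∈ S) (hc : c ∈ S)
    (hab : a ≠ b) (hac : a ≠ c) (hbc : b ≠ c) : c ∉ ln L a b := by
  intro h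
  have h3 : ({a, b, c} : Finset α).card = 3 := by simp [hab, hac, hbc]
  have := (card_le_card (show {a, b, c} ⊆ ln L a b ∩ S by
    simp [insert_subset_iff, P.left_mem hab, P.right_mem hab, h, ha, hb, hc])).trans (hS _ (P.ln_mem hab))
  omega

theorem isArc_of_card_le_two {S : Finset α} (h : S.card ≤ 2) : IsArc L S :=
  fun _ _ => (card_le_card inter_subset_right).trans h

theorem isArc_subset {S T : Finset α} (h : IsArc L T) (hST : S ⊆ T) : IsArc L S :=
  fun l hl => (card_le_card (inter_subset_inter_left hST)).trans (h l hl)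

theorem mem_ext {S : Finset α} {x : α} :
    x ∈ ext L S ↔ x ∉ S ∧ ∀ a ∈ S, ∀ b ∈ S, a ≠ b → x ∉ ln L a b := by
  simp [ext]

theorem isArc_insert {S : Finset α} {x : α} (hx : x ∉ S) :
    IsArc L (insert x S) ↔ IsArc L S ∧ x ∈ ext L S := by
  constructor
  · intro h
    refine ⟨P.isArc_subset h (subset_insert _ _), P.mem_ext.2 ⟨hx, fun a ha b hb hab => ?_⟩⟩
    exact P.not_collinear h (mem_insert_of_mem ha) (mem_insert_of_mem hb) (mem_insert_self x S) hab
      (fun e => hx (e ▸ ha)) (fun e => hx (e ▸ hb))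
  · rintro ⟨hS, hxe⟩ l hl
    by_cases hxl : x ∈ l
    · have h1 : (l ∩ S).card ≤ 1 := by
        refine card_le_one.2 fun a ha b hb => ?_
        by_contra hab
        rw [mem_inter] at ha hb
        exact (P.mem_ext.1 hxe).2 a ha.2 b hb.2 hab (P.eq_ln hl hab ha.1 hb.1 ▸ hxl)
      rw [inter_insert_of_mem hxl]
      exact (card_insert_le _ _).trans (by omega)
    · rw [inter_insert_of_notMem hxl]
      exact hS l hl

theorem ext_two {a b : α} (hab : a ≠ b) : (ext L {a, b}).card = 16 := by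
  have : ext L {a, b} = univ \ ln L a b := by
    ext x
    simp only [P.mem_ext, mem_insert, mem_singleton, mem_sdiff, mem_univ, true_and]
    constructor
    · rintro ⟨-, h⟩
      exact h a (Or.inl rfl) b (Or.inr rfl) hab
    · intro h
      refine ⟨?_, ?_⟩
      · rintro (rfl | rfl)
        exacts [h (P.left_mem hab), h (P.right_mem hab)]
      · rintro u (rfl | rfl) v (rfl | rfl) huv
        exacts [absurd rfl huv, h, by rwa [P.ln_comm huv], absurd rfl huv]
  rw [this, card_sdiff_of_subset (subset_univ _), card_univ, P.card, P.card_line (P.ln_mem hab)]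

/-- The triangle on three points of an arc. -/
theorem triangle {S : Finset α} (hS : IsArc L S) {a b c : α} (ha : a ∈ S) (hb : b ∈ S) (hc : c ∈ S)
    (hab : a ≠ b) (hac : a ≠ c) (hbc : b ≠ c) :
    ln L a b ∩ ln L a c = {a} ∧ ln L a b ∩ ln L b c = {b} ∧ ln L a c ∩ ln L b c = {c} ∧
      ext L {a, b, c} = univ \ (ln L a b ∪ ln L a c ∪ ln L b c) := by
  have n1 : c ∉ ln L a b := P.not_collinear hS ha hb hc hab hac hbc
  have n2 : b ∉ ln L a c := P.not_collinear hS ha hc hb hac hab hbc.symm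
  refine ⟨P.inter_eq (P.ln_mem hab) (P.ln_mem hac) (fun e => n2 (e ▸ P.right_mem hab)) (P.left_mem hab)
    (P.left_mem hac), P.inter_eq (P.ln_mem hab) (P.ln_mem hbc) (fun e => n1 (e ▸ P.right_mem hbc))
    (P.right_mem hab) (P.left_mem hbc), P.inter_eq (P.ln_mem hac) (P.ln_mem hbc)
    (fun e => n2 (e ▸ P.left_mem hbc)) (P.right_mem hac) (P.right_mem hbc), ?_⟩
  ext x
  simp only [P.mem_ext, mem_insert, mem_singleton, mem_sdiff, mem_univ, mem_union, true_and]
  constructor
  · rintro ⟨-, h⟩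
    rintro ((h' | h') | h')
    · exact h a (Or.inl rfl) b (Or.inr (Or.inl rfl)) hab h'
    · exact h a (Or.inl rfl) c (Or.inr (Or.inr rfl)) hac h'
    · exact h b (Or.inr (Or.inl rfl)) c (Or.inr (Or.inr rfl)) hbc h'
  · intro h
    push Not at h
    obtain ⟨⟨h1, h2⟩, h3⟩ := h
    refine ⟨?_, ?_⟩
    · rintro (rfl | rfl | rfl)
      exacts [h1 (P.left_mem hab), h1 (P.right_mem hab), h2 (P.right_mem hac)]
    · rintro u (rfl | rfl | rfl) v (rfl | rfl | rfl) huv
      exacts [absurd rfl huv, h1, h2, by rwa [P.ln_comm huv], absurd rfl huv, h3, by rwa [P.ln_comm huv],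
        by rwa [P.ln_comm huv], absurd rfl huv]

theorem ext_three {S : Finset α} (hS : IsArc L S) (h : S.card = 3) : (ext L S).card = 9 := by
  obtain ⟨a, b, c, hab, hac, hbc, rfl⟩ := card_eq_three.1 h
  obtain ⟨h1, h2, h3, h4⟩ := P.triangle hS (by simp) (by simp) (by simp) hab hac hbc
  have hi : (ln L a b ∪ ln L a c) ∩ ln L b c = {b, c} := by
    rw [union_inter_distrib_right, h2, h3]; ext x; simp
  have e1 := card_union_add_card_inter (ln L a b) (ln L a c)
  have e2 := card_union_add_card_inter (ln L a b ∪ ln L a c) (ln L b c)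
  rw [h1, card_singleton, P.card_line (P.ln_mem hab), P.card_line (P.ln_mem hac)] at e1
  rw [hi, card_pair hbc, P.card_line (P.ln_mem hbc)] at e2
  rw [h4, card_sdiff_of_subset (subset_univ _), card_univ, P.card]
  omega

/-- A side through the fourth point meets the free points of the triangle in three points. -/
theorem side {a b c d : α} (hS : IsArc L {a, b, c, d}) (hab : a ≠ b) (hac : a ≠ c) (hbc : b ≠ c)
    (had : a ≠ d) (hbd : b ≠ d) (hcd : c ≠ d) :
    (ln L a d ∩ ext L {a, b, c}).card = 3 := by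
  obtain ⟨-, -, -, h4⟩ := P.triangle hS (a := a) (b := b) (c := c) (by simp) (by simp) (by simp) hab hac hbc
  have n1 : d ∉ ln L a b := P.not_collinear hS (by simp) (by simp) (by simp) hab had hbd
  have n2 : d ∉ ln L a c := P.not_collinear hS (by simp) (by simp) (by simp) hac had hcd
  have n3 : d ∉ ln L b c := P.not_collinear hS (by simp) (by simp) (by simp) hbc hbd hcd
  have n4 : a ∉ ln L b c := P.not_collinear hS (by simp) (by simp) (by simp) hbc hab.symm hac.symm
  set l := ln L a d with hl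
  have hlL : l ∈ L := P.ln_mem had
  have i1 : l ∩ ln L a b = {a} := P.inter_eq hlL (P.ln_mem hab) (fun e => n1 (e ▸ P.right_mem had))
    (P.left_mem had) (P.left_mem hab)
  have i2 : l ∩ ln L a c = {a} := P.inter_eq hlL (P.ln_mem hac) (fun e => n2 (e ▸ P.right_mem had))
    (P.left_mem had) (P.left_mem hac)
  obtain ⟨q, hq⟩ := card_eq_one.1 (P.card_inter hlL (P.ln_mem hbc) (fun e => n3 (e ▸ P.right_mem had)))
  have hqa : q ≠ a := fun e => n4 (by
    have : q ∈ l ∩ ln L b c := by rw [hq]; simp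
    exact e ▸ (mem_inter.1 this).2)
  have : l ∩ ext L {a, b, c} = l \ {a, q} := by
    rw [h4]
    ext x
    simp only [mem_inter, mem_sdiff, mem_univ, true_and, mem_union, mem_insert, mem_singleton]
    constructor
    · rintro ⟨hx, hn⟩
      refine ⟨hx, ?_⟩
      rintro (rfl | rfl)
      · exact hn (Or.inl (Or.inl (P.left_mem hab)))
      · exact hn (Or.inr (mem_inter.1 (show x ∈ l ∩ ln L b c by rw [hq]; simp)).2)
    · rintro ⟨hx, hn⟩
      refine ⟨hx, ?_⟩
      rintro ((h | h) | h)
      · exact hn (Or.inl (mem_singleton.1 (i1 ▸ mem_inter.2 ⟨hx, h⟩)))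
      · exact hn (Or.inl (mem_singleton.1 (i2 ▸ mem_inter.2 ⟨hx, h⟩)))
      · exact hn (Or.inr (mem_singleton.1 (hq ▸ mem_inter.2 ⟨hx, h⟩)))
  have hsub : ({a, q} : Finset α) ⊆ l := by
    simp only [insert_subset_iff, singleton_subset_iff]
    exact ⟨P.left_mem had, (mem_inter.1 (show q ∈ l ∩ ln L b c by rw [hq]; simp)).1⟩
  rw [this, card_sdiff_of_subset hsub, card_pair hqa.symm, P.card_line hlL]

theorem ext_four {S : Finset α} (hS : IsArc L S) (h : S.card = 4) : (ext L S).card = 2 := by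
  obtain ⟨a, b, c, d, hab, hac, had, hbc, hbd, hcd, rfl⟩ := card_eq_four.1 h
  set E := ext L {a, b, c} with hE
  have hE9 : E.card = 9 := P.ext_three (P.isArc_subset hS (by simp [insert_subset_iff])) (by simp [hab, hac, hbc])
  set A := ln L a d ∩ E with hA
  set B := ln L b d ∩ E with hB
  set C := ln L c d ∩ E with hC
  have cA : A.card = 3 := P.side hS hab hac hbc had hbd hcd
  have cB : B.card = 3 := by
    have h1 : IsArc L ({b, a, c, d} : Finset α) := by rwa [insert_comm]
    have := P.side h1 hab.symm hbc hac hbd had hcd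
    rwa [insert_comm] at this
  have cC : C.card = 3 := by
    have e : ({c, a, b, d} : Finset α) = {a, b, c, d} := by ext x; simp; tauto
    have e' : ({c, a, b} : Finset α) = {a, b, c} := by ext x; simp; tauto
    have := P.side (show IsArc L ({c, a, b, d} : Finset α) by rwa [e]) hac.symm hbc.symm hab hcd had hbd
    rwa [e'] at this
  have hdE : d ∈ E := P.mem_ext.2 ⟨by simp [had.symm, hbd.symm, hcd.symm], by
    simp only [mem_insert, mem_singleton]
    rintro u hu v hv huv
    refine P.not_collinear hS ?_ ?_ (by simp) huv ?_ ?_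
    · rcases hu with rfl | rfl | rfl <;> simp
    · rcases hv with rfl | rfl | rfl <;> simp
    · rcases hu with rfl | rfl | rfl <;> assumption
    · rcases hv with rfl | rfl | rfl <;> assumption⟩
  have meet : ∀ u v : α, u ≠ d → v ≠ d → v ∉ ln L u d → ln L u d ∩ E ∩ (ln L v d ∩ E) = {d} := by
    intro u v hu hv hn
    refine eq_singleton_iff_unique_mem.2 ⟨mem_inter.2 ⟨mem_inter.2 ⟨P.right_mem hu, hdE⟩,
      mem_inter.2 ⟨P.right_mem hv, hdE⟩⟩, fun x hx => ?_⟩
    have hx' : x ∈ ln L u d ∩ ln L v d := by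
      simp only [mem_inter] at hx ⊢; exact ⟨hx.1.1, hx.2.1⟩
    rw [P.inter_eq (P.ln_mem hu) (P.ln_mem hv) (fun e => hn (e ▸ P.left_mem hv)) (P.right_mem hu)
      (P.right_mem hv)] at hx'
    exact mem_singleton.1 hx'
  have mab := meet a b had hbd (P.not_collinear hS (by simp) (by simp) (by simp) had hab hbd.symm)
  have mac := meet a c had hcd (P.not_collinear hS (by simp) (by simp) (by simp) had hac hcd.symm)
  have mbc := meet b c hbd hcd (P.not_collinear hS (by simp) (by simp) (by simp) hbd hbc hcd.symm)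
  have e1 := card_union_add_card_inter A B
  have e2 := card_union_add_card_inter (A ∪ B) C
  rw [cA, cB, show A ∩ B = {d} from mab, card_singleton] at e1
  rw [show (A ∪ B) ∩ C = {d} by rw [union_inter_distrib_right, show A ∩ C = {d} from mac,
    show B ∩ C = {d} from mbc, union_self], cC, card_singleton] at e2
  have hsub : A ∪ B ∪ C ⊆ E := union_subset (union_subset inter_subset_right inter_subset_right) inter_subset_right
  have he : ext L {a, b, c, d} = E \ (A ∪ B ∪ C) := by
    ext x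
    simp only [mem_sdiff, mem_union, hA, hB, hC, mem_inter, hE, P.mem_ext, mem_insert, mem_singleton]
    constructor
    · rintro ⟨hn, hp⟩
      have up : ∀ {u : α}, u = a ∨ u = b ∨ u = c → u = a ∨ u = b ∨ u = c ∨ u = d := fun h =>
        h.imp_right (fun h => h.imp_right Or.inl)
      refine ⟨⟨fun h => hn (up h), fun u hu v hv => hp u (up hu) v (up hv)⟩, ?_⟩
      rintro ((⟨h, -⟩ | ⟨h, -⟩) | ⟨h, -⟩)
      · exact hp a (Or.inl rfl) d (Or.inr (Or.inr (Or.inr rfl))) had h
      · exact hp b (Or.inr (Or.inl rfl)) d (Or.inr (Or.inr (Or.inr rfl))) hbd h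
      · exact hp c (Or.inr (Or.inr (Or.inl rfl))) d (Or.inr (Or.inr (Or.inr rfl))) hcd h
    · rintro ⟨hx, hn⟩
      have h1 : x ∉ ln L a d := fun h => hn (Or.inl (Or.inl ⟨h, hx⟩))
      have h2 : x ∉ ln L b d := fun h => hn (Or.inl (Or.inr ⟨h, hx⟩))
      have h3 : x ∉ ln L c d := fun h => hn (Or.inr ⟨h, hx⟩)
      refine ⟨?_, ?_⟩
      · rintro (rfl | rfl | rfl | rfl)
        exacts [hx.1 (Or.inl rfl), hx.1 (Or.inr (Or.inl rfl)), hx.1 (Or.inr (Or.inr rfl)), h1 (P.right_mem had)]
      · have hd : ∀ u, u = a ∨ u = b ∨ u = c → u ≠ d ∧ x ∉ ln L u d := by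
          rintro u (rfl | rfl | rfl)
          exacts [⟨had, h1⟩, ⟨hbd, h2⟩, ⟨hcd, h3⟩]
        intro u hu v hv huv
        by_cases hud : u = d
        · subst hud
          have hv' : v = a ∨ v = b ∨ v = c := by
            rcases hv with h | h | h | h
            exacts [Or.inl h, Or.inr (Or.inl h), Or.inr (Or.inr h), absurd h.symm huv]
          rw [P.ln_comm huv]
          exact (hd v hv').2
        · have hu' : u = a ∨ u = b ∨ u = c := by
            rcases hu with h | h | h | h
            exacts [Or.inl h, Or.inr (Or.inl h), Or.inr (Or.inr h), absurd h hud]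
          by_cases hvd : v = d
          · subst hvd; exact (hd u hu').2
          · refine hx.2 u hu' v ?_ huv
            rcases hv with h | h | h | h
            exacts [Or.inl h, Or.inr (Or.inl h), Or.inr (Or.inr h), absurd h hvd]
  rw [he, card_sdiff_of_subset hsub, hE9]
  omega

theorem existsUnique_hyperoval {S : Finset α} (hS : IsArc L S) (h : S.card = 4) :
    ∃! H : Finset α, (H.card = 6 ∧ IsArc L H) ∧ S ⊆ H := by
  obtain ⟨e, f, hef, he⟩ := card_eq_two.1 (P.ext_four hS h)
  have heS : e ∈ ext L S := by rw [he]; simp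
  have hfS : f ∈ ext L S := by rw [he]; simp
  have hdisj : Disjoint S {e, f} := disjoint_right.2 fun x hx => (P.mem_ext.1 (he ▸ hx)).1
  refine ⟨S ∪ {e, f}, ⟨⟨by rw [card_union_of_disjoint hdisj, h, card_pair hef], ?_⟩, subset_union_left⟩, ?_⟩
  · have hSe := (P.isArc_insert (P.mem_ext.1 heS).1).2 ⟨hS, heS⟩
    rw [show S ∪ {e, f} = insert f (insert e S) by ext x; simp; tauto]
    refine (P.isArc_insert (by simp [hef.symm, (P.mem_ext.1 hfS).1])).2 ⟨hSe, P.mem_ext.2
      ⟨by simp [hef.symm, (P.mem_ext.1 hfS).1], ?_⟩⟩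
    -- no point of `S` on the line `e f`
    have key : ∀ s ∈ S, f ∉ ln L s e := by
      intro s hs hf
      have hse : s ≠ e := fun e' => (P.mem_ext.1 heS).1 (e' ▸ hs)
      have hsf : s ≠ f := fun e' => (P.mem_ext.1 hfS).1 (e' ▸ hs)
      obtain ⟨b, c, d, hbc, hbd, hcd, hT⟩ := card_eq_three.1 (show (S.erase s).card = 3 by
        rw [card_erase_of_mem hs, h])
      have hmem : ∀ {u : α}, u ∈ ({b, c, d} : Finset α) → u ∈ S ∧ u ≠ s := by
        intro u hu; rw [← hT, mem_erase] at hu; exact ⟨hu.2, hu.1⟩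
      obtain ⟨hb, hbs⟩ := hmem (show b ∈ _ by simp)
      obtain ⟨hc, hcs⟩ := hmem (show c ∈ _ by simp)
      obtain ⟨hd, hds⟩ := hmem (show d ∈ _ by simp)
      set l := ln L s e with hl
      have hlL : l ∈ L := P.ln_mem hse
      have hsl : s ∈ l := P.left_mem hse
      have hel : e ∈ l := P.right_mem hse
      have hnv : ∀ u ∈ S, u ≠ s → u ∉ l := fun u hu hus hul =>
        (P.mem_ext.1 heS).2 s hs u hu hus.symm ((P.eq_ln hlL hus.symm hsl hul) ▸ hel)
      have hpt : ∀ u ∈ S, ∀ v ∈ S, u ≠ v → u ≠ s → v ≠ s →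
          ∃ q, q ∈ l ∧ q ∈ ln L u v ∧ q ≠ s ∧ q ≠ e ∧ q ≠ f := by
        intro u hu v hv huv hus hvs
        obtain ⟨q, hq⟩ := P.inter_nonempty hlL (P.ln_mem huv)
        rw [mem_inter] at hq
        exact ⟨q, hq.1, hq.2, fun e' => P.not_collinear hS hu hv hs huv hus hvs (e' ▸ hq.2),
          fun e' => (P.mem_ext.1 heS).2 u hu v hv huv (e' ▸ hq.2),
          fun e' => (P.mem_ext.1 hfS).2 u hu v hv huv (e' ▸ hq.2)⟩
      obtain ⟨q1, q1l, q1m, q1s, q1e, q1f⟩ := hpt b hb c hc hbc hbs hcs
      obtain ⟨q2, q2l, q2m, q2s, q2e, q2f⟩ := hpt b hb d hd hbd hbs hds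
      obtain ⟨q3, q3l, q3m, q3s, q3e, q3f⟩ := hpt c hc d hd hcd hcs hds
      obtain ⟨t1, t2, t3, -⟩ := P.triangle hS hb hc hd hbc hbd hcd
      have n12 : q1 ≠ q2 := fun e' => hnv b hb hbs (by
        have : q1 ∈ ln L b c ∩ ln L b d := mem_inter.2 ⟨q1m, e' ▸ q2m⟩
        rw [t1, mem_singleton] at this; exact this ▸ q1l)
      have n13 : q1 ≠ q3 := fun e' => hnv c hc hcs (by
        have : q1 ∈ ln L b c ∩ ln L c d := mem_inter.2 ⟨q1m, e' ▸ q3m⟩
        rw [t2, mem_singleton] at this; exact this ▸ q1l)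
      have n23 : q2 ≠ q3 := fun e' => hnv d hd hds (by
        have : q2 ∈ ln L b d ∩ ln L c d := mem_inter.2 ⟨q2m, e' ▸ q3m⟩
        rw [t3, mem_singleton] at this; exact this ▸ q2l)
      have := card_le_card (show ({s, e, f, q1, q2, q3} : Finset α) ⊆ l by
        simp [insert_subset_iff, hsl, hel, hf, q1l, q2l, q3l])
      rw [P.card_line hlL] at this
      simp [hse, hsf, hef, q1s.symm, q2s.symm, q3s.symm, q1e.symm, q2e.symm, q3e.symm, q1f.symm, q2f.symm,
        q3f.symm, n12, n13, n23] at this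
    intro u hu v hv huv
    rw [mem_insert] at hu hv
    rcases hu with rfl | hu
    · rw [P.ln_comm huv]; exact key v (hv.resolve_left (Ne.symm huv))
    · rcases hv with rfl | hv
      · exact key u hu
      · exact (P.mem_ext.1 hfS).2 u hu v hv huv
  · rintro H ⟨⟨hH6, hH⟩, hSH⟩
    have hsub : H \ S ⊆ {e, f} := by
      intro x hx
      rw [mem_sdiff] at hx
      rw [← he]
      exact ((P.isArc_insert hx.2).1 (P.isArc_subset hH (insert_subset hx.1 hSH))).2
    have := eq_of_subset_of_card_le hsub (by rw [card_sdiff_of_subset hSH, hH6, h, card_pair hef])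
    rw [← this, union_sdiff_of_subset hSH]

theorem mem_arcs {k : ℕ} {S : Finset α} : S ∈ arcs L k ↔ S.card = k ∧ IsArc L S := by
  simp [arcs]

theorem arcs_succ (k n : ℕ) (hn : ∀ S ∈ arcs L k, (ext L S).card = n) :
    (arcs L (k + 1)).card * (k + 1) = (arcs L k).card * n := by
  classical
  have h1 : ∑ T ∈ arcs L (k + 1), T.card = (arcs L (k + 1)).card * (k + 1) := by
    rw [sum_congr rfl (fun T hT => (P.mem_arcs.1 hT).1), sum_const, smul_eq_mul]
  rw [← h1, ← card_sigma, ← smul_eq_mul, ← sum_const, ← sum_congr rfl hn, ← card_sigma]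
  refine card_bij' (fun q _ => ⟨q.1.erase q.2, q.2⟩) (fun q _ => ⟨insert q.2 q.1, q.2⟩) ?_ ?_ ?_ ?_
  · rintro ⟨T, x⟩ hq
    simp only [mem_sigma, P.mem_arcs] at hq ⊢
    obtain ⟨⟨hc, hT⟩, hx⟩ := hq
    have he : IsArc L (insert x (T.erase x)) := by rwa [insert_erase hx]
    exact ⟨⟨by rw [card_erase_of_mem hx, hc]; omega, P.isArc_subset hT (erase_subset _ _)⟩,
      ((P.isArc_insert (notMem_erase x T)).1 he).2⟩
  · rintro ⟨S, x⟩ hq
    simp only [mem_sigma, P.mem_arcs] at hq ⊢
    obtain ⟨⟨hc, hS⟩, hx⟩ := hq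
    have hxS := (P.mem_ext.1 hx).1
    exact ⟨⟨by rw [card_insert_of_notMem hxS, hc], (P.isArc_insert hxS).2 ⟨hS, hx⟩⟩, mem_insert_self _ _⟩
  · rintro ⟨T, x⟩ hq
    simp only [mem_sigma] at hq
    simp [insert_erase hq.2]
  · rintro ⟨S, x⟩ hq
    simp only [mem_sigma] at hq
    simp [erase_insert (P.mem_ext.1 hq.2).1]

theorem card_four_arcs : (arcs L 4).card = 2520 := by
  classical
  have h2 : (arcs L 2).card = 210 := by
    have : arcs L 2 = (univ : Finset α).powersetCard 2 := by
      ext S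
      simp only [P.mem_arcs, mem_powersetCard, subset_univ, true_and, and_iff_left_iff_imp]
      exact fun h => P.isArc_of_card_le_two h.le
    rw [this, card_powersetCard, card_univ, P.card]
    rfl
  have e3 : (arcs L 3).card * 3 = (arcs L 2).card * 16 := P.arcs_succ 2 16 fun S hS => by
    obtain ⟨a, b, hab, rfl⟩ := card_eq_two.1 (P.mem_arcs.1 hS).1
    exact P.ext_two hab
  have e4 : (arcs L 4).card * 4 = (arcs L 3).card * 9 := P.arcs_succ 3 9 fun S hS => P.ext_three (P.mem_arcs.1 hS).2 (P.mem_arcs.1 hS).1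
  omega

theorem card_hyperovals : (arcs L 6).card = 168 := by
  classical
  let F : Finset α → Finset α := fun S =>
    if h : IsArc L S ∧ S.card = 4 then (P.existsUnique_hyperoval h.1 h.2).choose else ∅
  have hF : ∀ S ∈ arcs L 4, (F S ∈ arcs L 6 ∧ S ⊆ F S) ∧
      ∀ H, H ∈ arcs L 6 → S ⊆ H → H = F S := by
    intro S hS
    have h : IsArc L S ∧ S.card = 4 := (P.mem_arcs.1 hS).symm
    simp only [F, dif_pos h]
    have hs := (P.existsUnique_hyperoval h.1 h.2).choose_spec
    exact ⟨⟨P.mem_arcs.2 hs.1.1, hs.1.2⟩, fun H hH hSH => hs.2 H ⟨P.mem_arcs.1 hH, hSH⟩⟩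
  have hsum := card_eq_sum_card_fiberwise (f := F) (s := arcs L 4) (t := arcs L 6) (fun S hS => (hF S hS).1.1)
  have hfib : ∀ H ∈ arcs L 6, ((arcs L 4).filter fun S => F S = H).card = 15 := by
    intro H hH
    have : (arcs L 4).filter (fun S => F S = H) = H.powersetCard 4 := by
      ext S
      simp only [mem_filter, mem_powersetCard]
      constructor
      · rintro ⟨hS, rfl⟩
        exact ⟨(hF S hS).1.2, (P.mem_arcs.1 hS).1⟩
      · rintro ⟨hSH, hc⟩
        have hS : S ∈ arcs L 4 := P.mem_arcs.2 ⟨hc, P.isArc_subset (P.mem_arcs.1 hH).2 hSH⟩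
        exact ⟨hS, ((hF S hS).2 H hH hSH).symm⟩
    rw [this, card_powersetCard, (P.mem_arcs.1 hH).1]
    rfl
  rw [sum_congr rfl hfib, sum_const, smul_eq_mul, P.card_four_arcs] at hsum
  omega

end Plane

end Cfsg.Agent.PlaneFour
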