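/-
Fixed-point-free involutions of six points, as lists of values.

Main results (namespace `Cfsg.Agent.PlaneFour`): `eq_of_agree`, `exists_third`, `total_unique`.
-/
import Cfsg.Agent.EqLemmas

set_option autoImplicit false

namespace Cfsg.Agent.PlaneFour

/-- A fixed-point-free involution of six points. -/
def IsSyn (p : Fin 6 → Fin 6) : Prop := ∀ i, p i ≠ i ∧ p (p i) = i

/-- The fifteen synthemes. -/
def syns : List (List (Fin 6)) :=
  [[1, 0, 3, 2, 5, 4], [1, 0, 4, 5, 2, 3], [1, 0, 5, 4, 3, 2],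
   [2, 3, 0, 1, 5, 4], [2, 4, 0, 5, 1, 3], [2, 5, 0, 4, 3, 1],
   [3, 2, 1, 0, 5, 4], [3, 4, 5, 0, 1, 2], [3, 5, 4, 0, 2, 1],
   [4, 2, 1, 5, 0, 3], [4, 3, 5, 1, 0, 2], [4, 5, 3, 2, 0, 1],
   [5, 2, 1, 4, 3, 0], [5, 3, 4, 1, 2, 0], [5, 4, 3, 2, 1, 0]]

/-- Two lists differ everywhere. -/
def disj (p q : List (Fin 6)) : Bool := (List.finRange 6).all fun i => p.getD i.1 0 != q.getD i.1 0

/-- The synthemes lying with two given ones in a system of five pairwise disjoint ones. -/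
def thirds (p q : List (Fin 6)) : List (List (Fin 6)) :=
  let D := syns.filter fun r => disj p r && disj q r
  D.filter fun r => D.any fun s => disj r s && D.any fun t => disj r t && disj s t

theorem syns_complete : ∀ a : Fin 6, a ≠ 0 → ∀ b : Fin 6, b ≠ 1 → ∀ c : Fin 6, c ≠ 2 → ∀ d : Fin 6, d ≠ 3 →
    ∀ e : Fin 6, e ≠ 4 → ∀ f : Fin 6, f ≠ 5 →
    ([a, b, c, d, e, f].getD a.1 0 = 0 ∧ [a, b, c, d, e, f].getD b.1 0 = 1 ∧
      [a, b, c, d, e, f].getD c.1 0 = 2 ∧ [a, b, c, d, e, f].getD d.1 0 = 3 ∧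
      [a, b, c, d, e, f].getD e.1 0 = 4 ∧ [a, b, c, d, e, f].getD f.1 0 = 5) →
      [a, b, c, d, e, f] ∈ syns := by
  decide +kernel

theorem syns_agree : ∀ p ∈ syns, ∀ q ∈ syns, ∀ a : Fin 6, a ≠ 0 → p.getD 0 0 ≠ a → p.getD 0 0 = q.getD 0 0 →
    p.getD a.1 0 = q.getD a.1 0 → p = q := by
  decide +kernel

theorem syns_thirds : ∀ p ∈ syns, ∀ q ∈ syns, disj p q = true → (thirds p q).length ≤ 3 := by
  decide +kernel

theorem syns_third : ∀ p ∈ syns, ∃ a : Fin 6, a ≠ 0 ∧ p.getD 0 0 ≠ a := by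
  decide +kernel

/-- The list of a function. -/
def code (p : Fin 6 → Fin 6) : List (Fin 6) := [p 0, p 1, p 2, p 3, p 4, p 5]

theorem getD_code (p : Fin 6 → Fin 6) (i : Fin 6) : (code p).getD i.1 0 = p i := by
  fin_cases i <;> rfl

theorem code_mem {p : Fin 6 → Fin 6} (h : IsSyn p) : code p ∈ syns :=
  syns_complete (p 0) (h 0).1 (p 1) (h 1).1 (p 2) (h 2).1 (p 3) (h 3).1 (p 4) (h 4).1 (p 5) (h 5).1
    ⟨(getD_code p (p 0)).trans (h 0).2, (getD_code p (p 1)).trans (h 1).2, (getD_code p (p 2)).trans (h 2).2,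
      (getD_code p (p 3)).trans (h 3).2, (getD_code p (p 4)).trans (h 4).2, (getD_code p (p 5)).trans (h 5).2⟩

theorem code_injective : Function.Injective code := fun p q h => funext fun i => by
  rw [← getD_code p i, ← getD_code q i, h]

theorem eq_of_agree {p q : Fin 6 → Fin 6} (hp : IsSyn p) (hq : IsSyn q) {a : Fin 6} (ha : a ≠ 0)
    (ha' : p 0 ≠ a) (h0 : p 0 = q 0) (h1 : p a = q a) : p = q :=
  code_injective (syns_agree _ (code_mem hp) _ (code_mem hq) a ha ((getD_code p 0).trans_ne ha')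
    ((getD_code p 0).trans (h0.trans (getD_code q 0).symm)) (by rw [getD_code, getD_code, h1]))

theorem exists_third {p : Fin 6 → Fin 6} (hp : IsSyn p) : ∃ a : Fin 6, a ≠ 0 ∧ p 0 ≠ a := by
  obtain ⟨a, ha, ha'⟩ := syns_third _ (code_mem hp)
  exact ⟨a, ha, by rwa [← getD_code p 0]⟩

theorem disj_code {p q : Fin 6 → Fin 6} : disj (code p) (code q) = true ↔ ∀ i, p i ≠ q i := by
  simp only [disj, List.all_eq_true, List.mem_finRange, true_implies, bne_iff_ne, getD_code]

/-- A system of five pairwise disjoint synthemes is determined by two of them. -/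
theorem total_unique {A B : Finset (Fin 6 → Fin 6)} (hA : A.card = 5) (hB : B.card = 5)
    (hAs : ∀ p ∈ A, IsSyn p) (hBs : ∀ p ∈ B, IsSyn p)
    (hAd : ∀ p ∈ A, ∀ q ∈ A, p ≠ q → ∀ i, p i ≠ q i) (hBd : ∀ p ∈ B, ∀ q ∈ B, p ≠ q → ∀ i, p i ≠ q i)
    {p q : Fin 6 → Fin 6} (hpA : p ∈ A) (hqA : q ∈ A) (hpB : p ∈ B) (hqB : q ∈ B) (hpq : p ≠ q) : A = B := by
  classical
  have key : ∀ C : Finset (Fin 6 → Fin 6), C.card = 5 → (∀ r ∈ C, IsSyn r) →
      (∀ r ∈ C, ∀ s ∈ C, r ≠ s → ∀ i, r i ≠ s i) → p ∈ C → q ∈ C →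
      ((C.erase p).erase q).image code = (thirds (code p) (code q)).toFinset := by
    intro C hC hCs hCd hpC hqC
    have hcard : ((C.erase p).erase q).card = 3 := by
      rw [Finset.card_erase_of_mem (Finset.mem_erase.2 ⟨hpq.symm, hqC⟩), Finset.card_erase_of_mem hpC, hC]
    refine Finset.eq_of_subset_of_card_le ?_ ?_
    · intro x hx
      obtain ⟨r, hr, rfl⟩ := Finset.mem_image.1 hx
      obtain ⟨s, hs⟩ := Finset.card_pos.1 (show 0 < (((C.erase p).erase q).erase r).card by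
        rw [Finset.card_erase_of_mem hr, hcard]; norm_num)
      obtain ⟨t, ht⟩ := Finset.card_pos.1 (show 0 < ((((C.erase p).erase q).erase r).erase s).card by
        rw [Finset.card_erase_of_mem hs, Finset.card_erase_of_mem hr, hcard]; norm_num)
      simp only [Finset.mem_erase] at hr hs ht
      obtain ⟨hrq, hrp, hrC⟩ := hr
      obtain ⟨hsr, hsq, hsp, hsC⟩ := hs
      obtain ⟨hts, htr, htq, htp, htC⟩ := ht
      have hd : ∀ {a b}, a ∈ C → b ∈ C → a ≠ b → disj (code a) (code b) = true :=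
        fun ha hb hab => disj_code.2 (hCd _ ha _ hb hab)
      simp only [List.mem_toFinset, thirds, List.mem_filter, List.any_eq_true, Bool.and_eq_true]
      exact ⟨⟨code_mem (hCs r hrC), hd hpC hrC hrp.symm, hd hqC hrC hrq.symm⟩, code s,
        ⟨code_mem (hCs s hsC), hd hpC hsC hsp.symm, hd hqC hsC hsq.symm⟩, hd hrC hsC hsr.symm, code t,
        ⟨code_mem (hCs t htC), hd hpC htC htp.symm, hd hqC htC htq.symm⟩, hd hrC htC htr.symm,
        hd hsC htC hts.symm⟩
    · rw [Finset.card_image_of_injective _ code_injective, hcard]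
      exact (List.toFinset_card_le _).trans (syns_thirds _ (code_mem (hCs p hpC)) _ (code_mem (hCs q hqC))
        (disj_code.2 (hCd p hpC q hqC hpq)))
  have h := (key A hA hAs hAd hpA hqA).trans (key B hB hBs hBd hpB hqB).symm
  have h2 := Finset.image_injective code_injective h
  calc A = insert p (insert q ((A.erase p).erase q)) := by
        rw [Finset.insert_erase (Finset.mem_erase.2 ⟨hpq.symm, hqA⟩), Finset.insert_erase hpA]
    _ = B := by rw [h2, Finset.insert_erase (Finset.mem_erase.2 ⟨hpq.symm, hqB⟩), Finset.insert_erase hpB]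

end Cfsg.Agent.PlaneFour
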