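/-
Coordinates of a plane of order four from a labelled hyperoval.

Main results (namespace `Cfsg.Agent.PlaneFour`): `Frame`, `exists_iso`, `iso_unique`, `exists_frame`.
-/
import Cfsg.Agent.Lib.PlaneFour.Plane
import Cfsg.Agent.Lib.PlaneFour.Syntheme

set_option autoImplicit false
open Cfsg

namespace Cfsg.Agent.PlaneFour

open Finset SteinerCount

variable {α β : Type*} [Fintype α] [DecidableEq α] [Fintype β] [DecidableEq β]

/-- A labelled hyperoval of a plane. -/
structure Frame (L : Set (Finset α)) (e : Fin 6 → α) : Prop where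
  plane : Plane L
  inj : Function.Injective e
  arc : IsArc L (univ.image e)

open Classical in
/-- The syntheme of a point off the hyperoval. -/
noncomputable def syn (L : Set (Finset α)) (e : Fin 6 → α) (x : α) (i : Fin 6) : Fin 6 :=
  if h : ∃ j, j ≠ i ∧ e j ∈ ln L x (e i) then h.choose else i

namespace Frame

variable {L : Set (Finset α)} {e : Fin 6 → α} (F : Frame L e)
include F

theorem other_unique {l : Finset α} (hl : l ∈ L) {i j k : Fin 6} (hi : e i ∈ l) (hj : e j ∈ l) (hk : e k ∈ l)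
    (hji : j ≠ i) (hki : k ≠ i) : j = k := by
  by_contra h
  exact F.plane.not_collinear F.arc (a := e i) (b := e j) (c := e k) (by simp) (by simp) (by simp)
    (F.inj.ne hji.symm) (F.inj.ne hki.symm) (F.inj.ne h) (F.plane.eq_ln hl (F.inj.ne hji.symm) hi hj ▸ hk)

theorem secant {l : Finset α} (hl : l ∈ L) {i : Fin 6} (hi : e i ∈ l) : ∃ j, j ≠ i ∧ e j ∈ l := by
  classical
  have hsub : (univ.erase i).image (fun j => ln L (e i) (e j)) ⊆ (blocks L).filter (fun m => e i ∈ m) := by
    intro m hm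
    obtain ⟨j, hj, rfl⟩ := mem_image.1 hm
    have hne := F.inj.ne (mem_erase.1 hj).1.symm
    exact mem_filter.2 ⟨mem_blocks.2 (F.plane.ln_mem hne), F.plane.left_mem hne⟩
  have hinj : Set.InjOn (fun j => ln L (e i) (e j)) ((univ.erase i : Finset (Fin 6)) : Set (Fin 6)) := by
    intro j hj k hk h
    have h' : ln L (e i) (e j) = ln L (e i) (e k) := h
    have hij := F.inj.ne (mem_erase.1 hj).1.symm
    have hik := F.inj.ne (mem_erase.1 hk).1.symm
    exact F.other_unique (F.plane.ln_mem hij) (F.plane.left_mem hij) (F.plane.right_mem hij)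
      (by rw [h']; exact F.plane.right_mem hik) (mem_erase.1 hj).1 (mem_erase.1 hk).1
  have heq := eq_of_subset_of_card_le hsub (by
    rw [card_image_of_injOn hinj, F.plane.card_through, card_erase_of_mem (mem_univ _), card_univ,
      Fintype.card_fin])
  have : l ∈ (blocks L).filter (fun m => e i ∈ m) := mem_filter.2 ⟨mem_blocks.2 hl, hi⟩
  rw [← heq] at this
  obtain ⟨j, hj, rfl⟩ := mem_image.1 this
  exact ⟨j, (mem_erase.1 hj).1, F.plane.right_mem (F.inj.ne (mem_erase.1 hj).1.symm)⟩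

theorem syn_spec {x : α} (hx : ∀ k, e k ≠ x) (i : Fin 6) :
    syn L e x i ≠ i ∧ e (syn L e x i) ∈ ln L x (e i) := by
  have h := F.secant (F.plane.ln_mem (hx i).symm) (F.plane.right_mem (hx i).symm)
  rw [syn, dif_pos h]
  exact h.choose_spec

theorem syn_iff {x : α} (hx : ∀ k, e k ≠ x) {i j : Fin 6} (hij : i ≠ j) :
    syn L e x i = j ↔ x ∈ ln L (e i) (e j) := by
  obtain ⟨h1, h2⟩ := F.syn_spec hx i
  have hm := F.plane.ln_mem (hx i).symm
  constructor
  · rintro rfl
    rw [← F.plane.eq_ln hm (F.inj.ne hij) (F.plane.right_mem (hx i).symm) h2]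
    exact F.plane.left_mem (hx i).symm
  · intro h
    have e1 : ln L (e i) (e j) = ln L x (e i) :=
      F.plane.eq_ln (F.plane.ln_mem (F.inj.ne hij)) (hx i).symm h (F.plane.left_mem (F.inj.ne hij))
    exact F.other_unique hm (F.plane.right_mem (hx i).symm) h2 (e1 ▸ F.plane.right_mem (F.inj.ne hij)) h1
      hij.symm

theorem syn_isSyn {x : α} (hx : ∀ k, e k ≠ x) : IsSyn (syn L e x) := by
  intro i
  obtain ⟨h1, -⟩ := F.syn_spec hx i
  refine ⟨h1, (F.syn_iff hx h1).2 ?_⟩
  rw [F.plane.ln_comm (F.inj.ne h1)]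
  exact (F.syn_iff hx h1.symm).1 rfl

theorem syn_injective {x y : α} (hx : ∀ k, e k ≠ x) (hy : ∀ k, e k ≠ y) (h : syn L e x = syn L e y) : x = y := by
  have hs := F.syn_isSyn hx
  obtain ⟨a, ha, ha'⟩ := exists_third hs
  have hpa : ∀ i, x ∈ ln L (e i) (e (syn L e x i)) ∧ y ∈ ln L (e i) (e (syn L e x i)) := fun i =>
    ⟨(F.syn_iff hx (hs i).1.symm).1 rfl, (F.syn_iff hy (hs i).1.symm).1 (congrFun h i).symm⟩
  by_contra hne
  have h0 := F.plane.ln_mem (F.inj.ne (hs 0).1.symm)
  have h1 := F.plane.ln_mem (F.inj.ne (hs a).1.symm)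
  have he := F.plane.line_unique h0 h1 hne (hpa 0).1 (hpa 0).2 (hpa a).1 (hpa a).2
  have := F.other_unique h0 (F.plane.left_mem (F.inj.ne (hs 0).1.symm)) (F.plane.right_mem (F.inj.ne (hs 0).1.symm))
    (he ▸ F.plane.left_mem (F.inj.ne (hs a).1.symm)) (hs 0).1 ha
  exact ha' this

theorem syn_surjective {p : Fin 6 → Fin 6} (hp : IsSyn p) : ∃ x, (∀ k, e k ≠ x) ∧ syn L e x = p := by
  obtain ⟨a, ha, ha'⟩ := exists_third hp
  have d0 := F.inj.ne (hp 0).1.symm
  have da := F.inj.ne (hp a).1.symm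
  have hpa : p a ≠ 0 := fun h => ha' (by rw [← h, (hp a).2])
  have hpa' : p a ≠ p 0 := fun h => ha (by rw [← (hp a).2, h, (hp 0).2])
  have nij : ∀ {i}, i = 0 ∨ i = p 0 → e i ∉ ln L (e a) (e (p a)) := by
    intro i hi h
    have hia : i ≠ a := by rcases hi with rfl | rfl; exacts [ha.symm, ha']
    have := F.other_unique (F.plane.ln_mem da) (F.plane.left_mem da) h (F.plane.right_mem da) hia (hp a).1
    rcases hi with rfl | rfl
    · exact hpa this.symm
    · exact hpa' this.symm
  obtain ⟨x, hx⟩ := F.plane.inter_nonempty (F.plane.ln_mem d0) (F.plane.ln_mem da)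
  rw [mem_inter] at hx
  have hxe : ∀ k, e k ≠ x := by
    intro k h
    by_cases hk : k = 0
    · exact nij (Or.inl hk) (h ▸ hx.2)
    · exact nij (Or.inr (F.other_unique (F.plane.ln_mem d0) (F.plane.left_mem d0) (h ▸ hx.1)
        (F.plane.right_mem d0) hk (hp 0).1)) (h ▸ hx.2)
  refine ⟨x, hxe, eq_of_agree (F.syn_isSyn hxe) hp ha ?_ ((F.syn_iff hxe (hp 0).1.symm).2 hx.1)
    ((F.syn_iff hxe (hp a).1.symm).2 hx.2)⟩
  rw [(F.syn_iff hxe (hp 0).1.symm).2 hx.1]; exact ha'

theorem syn_disjoint {l : Finset α} (hl : l ∈ L) (hle : ∀ k, e k ∉ l) {x y : α} (hx : x ∈ l) (hy : y ∈ l)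
    (hxy : x ≠ y) (i : Fin 6) : syn L e x i ≠ syn L e y i := by
  intro h
  have hxe : ∀ k, e k ≠ x := fun k h => hle k (h ▸ hx)
  have hye : ∀ k, e k ≠ y := fun k h => hle k (h ▸ hy)
  obtain ⟨h1, -⟩ := F.syn_spec hxe i
  have e1 := (F.syn_iff hxe h1.symm).1 rfl
  have e2 := (F.syn_iff hye h1.symm).1 h.symm
  exact hle i (F.plane.line_unique (F.plane.ln_mem (F.inj.ne h1.symm)) hl hxy e1 e2 hx hy ▸
    F.plane.left_mem (F.inj.ne h1.symm))

end Frame

/-- Two labelled hyperovals are matched by an isomorphism of planes. -/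
theorem exists_iso {L : Set (Finset α)} {L' : Set (Finset β)} {e : Fin 6 → α} {e' : Fin 6 → β}
    (F : Frame L e) (F' : Frame L' e') :
    ∃ g : α ≃ β, (fun b => b.image g) '' L = L' ∧ ∀ i, g (e i) = e' i := by
  classical
  let φ : α → β := fun x =>
    if h : ∃ i, e i = x then e' h.choose else
      if h' : ∃ y, (∀ k, e' k ≠ y) ∧ syn L' e' y = syn L e x then h'.choose else e' 0
  have hφe : ∀ i, φ (e i) = e' i := fun i => by
    have h : ∃ k, e k = e i := ⟨i, rfl⟩
    simp only [φ, dif_pos h]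
    rw [F.inj h.choose_spec]
  have hφx : ∀ x, (∀ k, e k ≠ x) → (∀ k, e' k ≠ φ x) ∧ syn L' e' (φ x) = syn L e x := by
    intro x hx
    have h : ¬ ∃ i, e i = x := fun ⟨i, hi⟩ => hx i hi
    have h' := F'.syn_surjective (F.syn_isSyn hx)
    simp only [φ, dif_neg h, dif_pos h']
    exact h'.choose_spec
  have hinj : Function.Injective φ := by
    intro x y hxy
    by_cases hx : ∃ i, e i = x <;> by_cases hy : ∃ i, e i = y
    · obtain ⟨i, rfl⟩ := hx
      obtain ⟨j, rfl⟩ := hy
      rw [hφe, hφe] at hxy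
      rw [F'.inj hxy]
    · obtain ⟨i, rfl⟩ := hx
      push Not at hy
      exact absurd ((hφe i).symm.trans hxy) ((hφx y hy).1 i)
    · obtain ⟨j, rfl⟩ := hy
      push Not at hx
      exact absurd ((hφe j).symm.trans hxy.symm) ((hφx x hx).1 j)
    · push Not at hx hy
      exact F.syn_injective hx hy (by rw [← (hφx x hx).2, ← (hφx y hy).2, hxy])
  have hbij : Function.Bijective φ :=
    (Fintype.bijective_iff_injective_and_card φ).2 ⟨hinj, by rw [F.plane.card, F'.plane.card]⟩
  refine ⟨Equiv.ofBijective φ hbij, ?_, hφe⟩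
  have hline : ∀ l ∈ L, l.image φ ∈ L' := by
    intro l hl
    by_cases hs : ∃ i, e i ∈ l
    · obtain ⟨i, hi⟩ := hs
      obtain ⟨j, hji, hj⟩ := F.secant hl hi
      have hne' := F'.inj.ne hji.symm
      have hsub : l.image φ ⊆ ln L' (e' i) (e' j) := by
        intro y hy
        obtain ⟨x, hx, rfl⟩ := mem_image.1 hy
        by_cases hxe : ∃ k, e k = x
        · obtain ⟨k, rfl⟩ := hxe
          rw [hφe]
          by_cases hki : k = i
          · rw [hki]; exact F'.plane.left_mem hne'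
          · rw [F.other_unique hl hi hx hj hki hji]; exact F'.plane.right_mem hne'
        · push Not at hxe
          obtain ⟨h1, h2⟩ := hφx x hxe
          refine (F'.syn_iff h1 hji.symm).1 ?_
          rw [h2]
          exact (F.syn_iff hxe hji.symm).2 (F.plane.eq_ln hl (F.inj.ne hji.symm) hi hj ▸ hx)
      rw [eq_of_subset_of_card_le hsub (by
        rw [card_image_of_injective _ hinj, F.plane.card_line hl, F'.plane.card_line (F'.plane.ln_mem hne')])]
      exact F'.plane.ln_mem hne'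
    · push Not at hs
      obtain ⟨x, hx, y, hy, hxy⟩ := one_lt_card.1 (show 1 < l.card by rw [F.plane.card_line hl]; norm_num)
      have hxe : ∀ {u}, u ∈ l → ∀ k, e k ≠ u := fun hu k h => hs k (h ▸ hu)
      set m := ln L' (φ x) (φ y) with hmdef
      have hne : φ x ≠ φ y := hinj.ne hxy
      have hmL : m ∈ L' := F'.plane.ln_mem hne
      have hm : ∀ k, e' k ∉ m := by
        intro k hk
        obtain ⟨j, hjk, hj⟩ := F'.secant hmL hk
        have e1 := F'.plane.eq_ln hmL (F'.inj.ne hjk.symm) hk hj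
        obtain ⟨x1, x2⟩ := hφx x (hxe hx)
        obtain ⟨y1, y2⟩ := hφx y (hxe hy)
        refine F.syn_disjoint hl hs hx hy hxy k ?_
        rw [← x2, ← y2, (F'.syn_iff x1 hjk.symm).2 (e1 ▸ F'.plane.left_mem hne),
          (F'.syn_iff y1 hjk.symm).2 (e1 ▸ F'.plane.right_mem hne)]
      have hme : ∀ {u}, u ∈ m → ∀ k, e' k ≠ u := fun hu k h => hm k (h ▸ hu)
      have iA : Set.InjOn (syn L e) (l : Set α) :=
        fun u hu v hv h => F.syn_injective (hxe hu) (hxe hv) h
      have iB : Set.InjOn (syn L' e') (m : Set β) :=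
        fun u hu v hv h => F'.syn_injective (hme hu) (hme hv) h
      have hAB : l.image (syn L e) = m.image (syn L' e') := by
        refine total_unique (by rw [card_image_of_injOn iA, F.plane.card_line hl])
          (by rw [card_image_of_injOn iB, F'.plane.card_line hmL]) ?_ ?_ ?_ ?_
          (mem_image_of_mem _ hx) (mem_image_of_mem _ hy) ?_ ?_ fun h => hxy (iA hx hy h)
        · intro p hp
          obtain ⟨u, hu, rfl⟩ := mem_image.1 hp
          exact F.syn_isSyn (hxe hu)
        · intro p hp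
          obtain ⟨u, hu, rfl⟩ := mem_image.1 hp
          exact F'.syn_isSyn (hme hu)
        · intro p hp q hq hpq
          obtain ⟨u, hu, rfl⟩ := mem_image.1 hp
          obtain ⟨v, hv, rfl⟩ := mem_image.1 hq
          exact F.syn_disjoint hl hs hu hv fun h => hpq (by rw [h])
        · intro p hp q hq hpq
          obtain ⟨u, hu, rfl⟩ := mem_image.1 hp
          obtain ⟨v, hv, rfl⟩ := mem_image.1 hq
          exact F'.syn_disjoint hmL hm hu hv fun h => hpq (by rw [h])
        · rw [← (hφx x (hxe hx)).2]; exact mem_image_of_mem _ (F'.plane.left_mem hne)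
        · rw [← (hφx y (hxe hy)).2]; exact mem_image_of_mem _ (F'.plane.right_mem hne)
      have hsub : l.image φ ⊆ m := by
        intro z hz
        obtain ⟨u, hu, rfl⟩ := mem_image.1 hz
        obtain ⟨h1, h2⟩ := hφx u (hxe hu)
        obtain ⟨v, hv, hv'⟩ := mem_image.1 (hAB ▸ mem_image_of_mem (syn L e) hu)
        rw [← F'.syn_injective (hme hv) h1 (hv'.trans h2.symm)]
        exact hv
      rw [eq_of_subset_of_card_le hsub (by
        rw [card_image_of_injective _ hinj, F.plane.card_line hl, F'.plane.card_line hmL])]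
      exact hmL
  refine Set.Subset.antisymm ?_ fun m hm => ?_
  · rintro _ ⟨l, hl, rfl⟩
    exact hline l hl
  · have h2 : ∀ a b : β, a ≠ b → a ∈ m → b ∈ m → ∃ l ∈ L, l.image φ = m := by
      intro a b hab ha hb
      obtain ⟨x, rfl⟩ := hbij.2 a
      obtain ⟨y, rfl⟩ := hbij.2 b
      have hxy : x ≠ y := fun h => hab (by rw [h])
      exact ⟨ln L x y, F.plane.ln_mem hxy, F'.plane.line_unique (hline _ (F.plane.ln_mem hxy)) hm hab
        (mem_image_of_mem _ (F.plane.left_mem hxy)) (mem_image_of_mem _ (F.plane.right_mem hxy)) ha hb⟩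
    obtain ⟨a, ha, b, hb, hab⟩ := one_lt_card.1 (show 1 < m.card by rw [F'.plane.card_line hm]; norm_num)
    obtain ⟨l, hl, hlm⟩ := h2 a b hab ha hb
    exact ⟨l, hl, hlm⟩

/-- A collineation is determined on a hyperoval. -/
theorem iso_unique {L : Set (Finset α)} {L' : Set (Finset β)} {e : Fin 6 → α} {e' : Fin 6 → β}
    (F : Frame L e) (F' : Frame L' e') {g h : α ≃ β} (hg : ∀ l ∈ L, l.image g ∈ L') (hh : ∀ l ∈ L, l.image h ∈ L')
    (hge : ∀ i, g (e i) = e' i) (hhe : ∀ i, h (e i) = e' i) : g = h := by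
  classical
  have key : ∀ f : α ≃ β, (∀ l ∈ L, l.image f ∈ L') → (∀ i, f (e i) = e' i) → ∀ x, (∀ k, e k ≠ x) →
      (∀ k, e' k ≠ f x) ∧ syn L' e' (f x) = syn L e x := by
    intro f hf hfe x hx
    have h1 : ∀ k, e' k ≠ f x := fun k h => hx k (f.injective ((hfe k).trans h))
    refine ⟨h1, funext fun i => ?_⟩
    obtain ⟨hne, -⟩ := F.syn_spec hx i
    refine (F'.syn_iff h1 hne.symm).2 ?_
    have hm := (F.syn_iff hx hne.symm).1 rfl
    have hd := F.inj.ne hne.symm
    rw [← hfe i, ← hfe (syn L e x i), ← F'.plane.eq_ln (hf _ (F.plane.ln_mem hd)) (f.injective.ne hd)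
      (mem_image_of_mem _ (F.plane.left_mem hd)) (mem_image_of_mem _ (F.plane.right_mem hd))]
    exact mem_image_of_mem _ hm
  refine Equiv.ext fun x => ?_
  by_cases hx : ∃ i, e i = x
  · obtain ⟨i, rfl⟩ := hx
    rw [hge, hhe]
  · push Not at hx
    obtain ⟨g1, g2⟩ := key g hg hge x hx
    obtain ⟨h1, h2⟩ := key h hh hhe x hx
    exact F'.syn_injective g1 h1 (g2.trans h2.symm)

theorem exists_frame {L : Set (Finset α)} (P : Plane L) : ∃ e : Fin 6 → α, Frame L e := by
  classical
  obtain ⟨H, hH⟩ := card_pos.1 (show 0 < (arcs L 6).card by rw [P.card_hyperovals]; norm_num)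
  obtain ⟨h6, harc⟩ := P.mem_arcs.1 hH
  let c : Fin 6 ≃ ↥H := (H.equivFinOfCardEq h6).symm
  refine ⟨fun i => (c i : α), P, fun i j h => c.injective (Subtype.ext h), P.isArc_subset harc ?_⟩
  intro x hx
  obtain ⟨i, -, rfl⟩ := mem_image.1 hx
  exact (c i).2

end Cfsg.Agent.PlaneFour
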